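set_option autoImplicit false
namespace Cfsg.Agent.Lib.Helper6.TCD.S44X
noncomputable def QX (i : Nat) : Nat := Nat.land (Nat.shiftRight 0x3c448cc4ea2320302cf8a883881d844b0cd14493dd1732d9444594d73342493138b3195272aea2d051e6a914aa0cb4e1e80f90198838c0611e7e6de9170dc74a6925a901a7579f1600485 (Nat.mul 7 (Nat.land i 127))) 127
end Cfsg.Agent.Lib.Helper6.TCD.S44X
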